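import Mathlib

/-!
The parameters of a group of shape `3^{1+2}.SL₂(3)`: the Heisenberg group and `SL₂(3)`.
-/

set_option autoImplicit false

open Matrix

namespace CfsgLib.PSpFourThree

/-- Vectors. -/
abbrev V2 := Fin 2 → ZMod 3

/-- The special linear group. -/
abbrev S23 := Matrix.SpecialLinearGroup (Fin 2) (ZMod 3)

/-- Parameters of the Heisenberg group. -/
abbrev H := V2 × ZMod 3

/-- The alternating form. -/
def om (v w : V2) : ZMod 3 := v 0 * w 1 - v 1 * w 0

/-- The product of the Heisenberg group. -/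
def hmul (x y : H) : H := (x.1 + y.1, x.2 + y.2 + om x.1 y.1)

/-- Parameters of the whole group. -/
abbrev T := H × S23

/-- The product. -/
def tmul (x y : T) : T :=
  (hmul x.1 ((x.2 : Matrix (Fin 2) (Fin 2) (ZMod 3)) *ᵥ y.1.1, y.1.2), x.2 * y.2)

/-- The first basis vector. -/
def e1 : V2 := ![1, 0]

/-- The second basis vector. -/
def e2 : V2 := ![0, 1]

theorem card_S23 : Fintype.card S23 = 24 := by decide +kernel

theorem card_T : Nat.card T = 648 := by
  rw [Nat.card_eq_fintype_card, Fintype.card_prod, Fintype.card_prod, Fintype.card_pi, card_S23]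
  simp

theorem sq_sq : ∀ A : S23, ∃ B C : S23, A = B * B * (C * C) := by decide +kernel

/-- Minus one. -/
def negOne : S23 := ⟨!![-1, 0; 0, -1], by decide +kernel⟩

/-- The transvection. -/
def trv : S23 := ⟨!![1, 1; 0, 1], by decide +kernel⟩

theorem conj_trv : ∀ A : S23, A * A * A = 1 → A ≠ 1 →
    ∃ B : S23, B * A * B⁻¹ = trv ∨ B * (A * A) * B⁻¹ = trv := by decide +kernel

theorem negOne_mem : ∀ A : S23, A ≠ 1 → A = negOne ∨ A * A = negOne ∨ A * A * A = negOne ∨
    ∃ B : S23, (A * (B * A * B⁻¹)) * (A * (B * A * B⁻¹)) = negOne ∨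
      (A * A * (B * A * B⁻¹)) * (A * A * (B * A * B⁻¹)) = negOne := by decide +kernel

theorem trv_fix : ∀ v : V2, (trv : Matrix (Fin 2) (Fin 2) (ZMod 3)) *ᵥ v = v → v 1 = 0 := by
  decide +kernel

theorem neg_fix : ∀ v : V2, (negOne : Matrix (Fin 2) (Fin 2) (ZMod 3)) *ᵥ v = v → v = 0 := by
  decide +kernel

theorem negOne_mulVec : ∀ v : V2, (negOne : Matrix (Fin 2) (Fin 2) (ZMod 3)) *ᵥ v = -v := by
  decide +kernel

theorem om_neg : ∀ v : V2, om v v = 0 ∧ om v (-v) = 0 ∧ om (-v) v = 0 := by decide +kernel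

theorem trv_cube : ∀ v : V2, v 1 = 0 → (trv : Matrix (Fin 2) (Fin 2) (ZMod 3)) *ᵥ v = v := by
  decide +kernel

theorem add_self_eq : ∀ x : ZMod 3, x + x + x = 0 ∧ -x + -x = x ∧ (x + x = 0 → x = 0) := by
  decide +kernel

theorem vadd_self_eq : ∀ v : V2, v + v + v = 0 ∧ -v + -v = v ∧ (v + v = 0 → v = 0) := by
  decide +kernel

theorem two_ne : (2 : ZMod 3) ≠ 0 := by decide

theorem three_eq : (3 : ZMod 3) = 0 := by decide

theorem om_e : (2 * om e2 e1 : ZMod 3) = 1 ∧ (2 * om (-e2) (-e1) : ZMod 3) = 1 := by decide +kernel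

theorem sq_unit : ∀ p q : ZMod 3, p * q = 1 → p * p = 1 := by decide +kernel

end CfsgLib.PSpFourThree
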