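import Mathlib
import Cfsg.Prelude.Def_Solvable
import Cfsg.Prelude.Def_CaseTheorems
import Cfsg.Prelude.Def_Transfer
import Cfsg.Agent.Solvable.Gaschutz
import Cfsg.Agent.PSpFourThreeCent.Param

/-!
A group of shape `3^{1+2}.SL₂(3)` with an elementary abelian subgroup of order 27 is parametrised by
`T` with the product `tmul`.
-/

set_option autoImplicit false
set_option linter.unusedVariables false
set_option linter.style.haveILetI false

open Matrix
open scoped commutatorElement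

namespace CfsgLib.PSpFourThree

variable {X : Type*} [Group X]

/-- `x ^ i` for `i` modulo three. -/
def pw (x : X) (i : ZMod 3) : X := x ^ i.val

theorem pw_add {x : X} (hx : x ^ 3 = 1) (i j : ZMod 3) : pw x (i + j) = pw x i * pw x j := by
  show x ^ (i + j).val = x ^ i.val * x ^ j.val
  rw [← pow_add, ← pow_mod_natCard_three hx]
where
  pow_mod_natCard_three {x : X} (hx : x ^ 3 = 1) {i j : ZMod 3} :
      x ^ (i.val + j.val) = x ^ (i + j).val := by
    rw [ZMod.val_add, pow_eq_pow_mod (i.val + j.val) hx]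

theorem pw_zero (x : X) : pw x 0 = 1 := by simp [pw]

theorem pw_one (x : X) : pw x 1 = x := by
  show x ^ (1 : ZMod 3).val = x
  rw [ZMod.val_one]; exact pow_one x

/-- Heisenberg coordinates from three elements. -/
def NN (u w z : X) (h : H) : X := pw u (h.1 0) * pw w (h.1 1) * pw z (2 * h.1 0 * h.1 1 + h.2)

theorem NN_mul {u w z : X} (hu : u ^ 3 = 1) (hw : w ^ 3 = 1) (hz : z ^ 3 = 1)
    (huz : Commute u z) (hwz : Commute w z) (hwu : w * u = u * w * z) (x y : H) :
    NN u w z (hmul x y) = NN u w z x * NN u w z y := by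
  have hpu : ∀ i, Commute (pw u i) z := fun i => huz.pow_left _
  have hcp : ∀ (a : X) (m : ZMod 3), Commute a z → Commute a (pw z m) := fun a m h => h.pow_right _
  have h1 : ∀ n : ℕ, w * u ^ n = u ^ n * w * z ^ n := by
    intro n
    induction n with
    | zero => simp
    | succ n ih =>
      have hzn : Commute (z ^ n) u := (huz.symm).pow_left n
      calc w * u ^ (n + 1) = w * u ^ n * u := by rw [pow_succ, mul_assoc]
        _ = u ^ n * w * (z ^ n * u) := by rw [ih, mul_assoc]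
        _ = u ^ n * (w * u) * z ^ n := by rw [hzn.eq]; simp only [mul_assoc]
        _ = u ^ n * (u * w * z) * z ^ n := by rw [hwu]
        _ = u ^ (n + 1) * w * z ^ (n + 1) := by simp only [pow_succ, pow_succ' z, mul_assoc]
  have h2 : ∀ n m : ℕ, w ^ m * u ^ n = u ^ n * w ^ m * z ^ (n * m) := by
    intro n m
    induction m with
    | zero => simp
    | succ m ih =>
      have hzn : Commute (z ^ n) (w ^ m) := (hwz.symm.pow_left n).pow_right m
      have hzw : Commute (z ^ (n * m)) w := hwz.symm.pow_left _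
      calc w ^ (m + 1) * u ^ n = w * (w ^ m * u ^ n) := by rw [pow_succ', mul_assoc]
        _ = (w * u ^ n) * w ^ m * z ^ (n * m) := by rw [ih]; simp only [mul_assoc]
        _ = u ^ n * w * (z ^ n * w ^ m) * z ^ (n * m) := by rw [h1]; simp only [mul_assoc]
        _ = u ^ n * (w * w ^ m) * (z ^ n * z ^ (n * m)) := by rw [hzn.eq]; simp only [mul_assoc]
        _ = u ^ n * w ^ (m + 1) * z ^ (n * (m + 1)) := by
          rw [← pow_succ', ← pow_add, show n + n * m = n * (m + 1) by ring]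
  have hzmod : ∀ i j : ZMod 3, z ^ (i.val * j.val) = pw z (i * j) := fun i j => by
    rw [pw, ZMod.val_mul, pow_eq_pow_mod _ hz]
  have hswap : ∀ i j : ZMod 3, pw w j * pw u i = pw u i * pw w j * pw z (i * j) := fun i j => by
    rw [← hzmod]; exact h2 _ _
  obtain ⟨v, k⟩ := x
  obtain ⟨v', k'⟩ := y
  simp only [NN, hmul, Pi.add_apply]
  set c1 := 2 * v 0 * v 1 + k with hc1
  set c2 := 2 * v' 0 * v' 1 + k' with hc2
  have e : 2 * (v 0 + v' 0) * (v 1 + v' 1) + (k + k' + om v v') = v' 0 * v 1 + c1 + c2 := by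
    have h3 : (3 : ZMod 3) = 0 := three_eq
    simp only [hc1, hc2, om]
    linear_combination (v 0 * v' 1) * h3
  rw [e, pw_add hz, pw_add hz, pw_add hu, pw_add hw]
  have hA : Commute (pw z c1) (pw u (v' 0)) := ((hpu (v' 0)).pow_right _).symm
  have hB : Commute (pw z c1) (pw w (v' 1)) := ((hwz.pow_left _).pow_right _).symm
  have hC : Commute (pw z (v' 0 * v 1)) (pw w (v' 1)) := ((hwz.pow_left _).pow_right _).symm
  symm
  calc pw u (v 0) * pw w (v 1) * pw z c1 * (pw u (v' 0) * pw w (v' 1) * pw z c2)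
      = pw u (v 0) * pw w (v 1) * (pw z c1 * pw u (v' 0)) * pw w (v' 1) * pw z c2 := by
        simp only [mul_assoc]
    _ = pw u (v 0) * (pw w (v 1) * pw u (v' 0)) * (pw z c1 * pw w (v' 1)) * pw z c2 := by
        rw [hA.eq]; simp only [mul_assoc]
    _ = pw u (v 0) * pw u (v' 0) * pw w (v 1) * (pw z (v' 0 * v 1) * pw w (v' 1)) * pw z c1 * pw z c2 := by
        rw [hswap, hB.eq]; simp only [mul_assoc]
    _ = _ := by rw [hC.eq]; simp only [mul_assoc]

theorem exists_param [Finite X] (hR : Cfsg.IsExtraspecial 3 (Cfsg.pCore 3 X))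
    (hRcard : Nat.card (Cfsg.pCore 3 X) = 27) (hRexp : ∀ r ∈ Cfsg.pCore 3 X, r ^ 3 = 1)
    (e : X ⧸ Cfsg.pCore 3 X ≃* S23) (hO2 : Cfsg.pCore 2 X = ⊥)
    (hE : ∃ E : Subgroup X, IsMulCommutative E ∧ (∀ a ∈ E, a ^ 3 = 1) ∧ Nat.card E = 27) :
    ∃ φ : T → X, Function.Bijective φ ∧ ∀ x y, φ (tmul x y) = φ x * φ y := by
  classical
  haveI : Fact (Nat.Prime 3) := ⟨Nat.prime_three⟩
  haveI : Fact (Nat.Prime 2) := ⟨Nat.prime_two⟩
  set R := Cfsg.pCore 3 X with hRdef
  set Z : Subgroup X := (Subgroup.center R).map R.subtype with hZdef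
  have hZc : Nat.card Z = 3 := by
    rw [hZdef, Subgroup.card_map_of_injective R.subtype_injective]; exact hR.2
  have hZR : Z ≤ R := Subgroup.map_subtype_le _
  have hZcen : ∀ a ∈ Z, ∀ r ∈ R, r * a = a * r := by
    rintro _ ⟨a, ha, rfl⟩ r hr
    exact congrArg Subtype.val (Subgroup.mem_center_iff.mp ha ⟨r, hr⟩)
  have hZof : ∀ x ∈ R, (∀ r ∈ R, r * x = x * r) → x ∈ Z := fun x hx h =>
    ⟨⟨x, hx⟩, Subgroup.mem_center_iff.mpr fun r => Subtype.ext (h r r.2), rfl⟩
  have hcomZ : ∀ a ∈ R, ∀ b ∈ R, (a * b)⁻¹ * (b * a) ∈ Z := by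
    intro a ha b hb
    refine ⟨((⟨a, ha⟩ * ⟨b, hb⟩ : R))⁻¹ * (⟨b, hb⟩ * ⟨a, ha⟩), ?_, rfl⟩
    rw [← hR.1.2.2]
    have : ((⟨a, ha⟩ * ⟨b, hb⟩ : R))⁻¹ * (⟨b, hb⟩ * ⟨a, ha⟩) =
        ⁅(⟨b, hb⟩ : R)⁻¹, (⟨a, ha⟩ : R)⁻¹⁆ := by
      simp only [commutatorElement_def]; group
    rw [this]
    exact Subgroup.commutator_mem_commutator (Subgroup.mem_top _) (Subgroup.mem_top _)
  -- generators
  obtain ⟨u, huR, huZ⟩ : ∃ u ∈ R, u ∉ Z := by
    by_contra h; push Not at h
    have := Subgroup.card_le_of_le (show R ≤ Z from h); omega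
  obtain ⟨w, hwR, huw⟩ : ∃ w ∈ R, w * u ≠ u * w := by
    by_contra h; push Not at h
    exact huZ (hZof u huR h)
  set z := (u * w)⁻¹ * (w * u) with hzdef
  have hzZ : z ∈ Z := hcomZ u huR w hwR
  have hz1 : z ≠ 1 := fun h => huw (inv_mul_eq_one.mp h).symm
  have hwu : w * u = u * w * z := by rw [hzdef, mul_inv_cancel_left]
  have huz : Commute u z := hZcen z hzZ u huR
  have hwz : Commute w z := hZcen z hzZ w hwR
  have hu3 := hRexp u huR
  have hw3 := hRexp w hwR
  have hz3 := hRexp z (hZR hzZ)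
  let N : H → X := NN u w z
  have hN : ∀ a b, N (hmul a b) = N a * N b := NN_mul hu3 hw3 hz3 huz hwz hwu
  have hNR : ∀ a, N a ∈ R := fun a =>
    R.mul_mem (R.mul_mem (R.pow_mem huR _) (R.pow_mem hwR _)) (R.pow_mem (hZR hzZ) _)
  have hN0 : ∀ k, N (0, k) = pw z k := fun k => by simp [N, NN, pw_zero]
  have hN0Z : ∀ k, N (0, k) ∈ Z := fun k => by rw [hN0]; exact Z.pow_mem hzZ _
  have hN1 : N (0, 0) = 1 := by rw [hN0, pw_zero]
  have hNu : N (e1, 0) = u := by simp [N, NN, e1, pw_zero, pw_one]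
  have hNw : N (e2, 0) = w := by simp [N, NN, e2, pw_zero, pw_one]
  have hpwz : ∀ k, pw z k = 1 → k = 0 := by
    intro k hk
    fin_cases k
    · rfl
    · exact absurd (show z = 1 by rwa [show (⟨1, _⟩ : Fin 3) = (1 : ZMod 3) from rfl, pw_one] at hk) hz1
    · refine absurd (show z = 1 from ?_) hz1
      have h2 : z ^ 2 = 1 := hk
      rw [pow_succ, h2, one_mul] at hz3
      exact hz3
  have hcommN : ∀ v v' k k', N (v, k) * N (v', k') = N (v', k') * N (v, k) * pw z (2 * om v v') := by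
    intro v v' k k'
    rw [← hN0 (2 * om v v'), ← hN, ← hN, ← hN]
    congr 1
    simp only [hmul, add_zero, add_comm v v', om, Pi.add_apply, Pi.zero_apply, mul_zero, sub_zero]
    congr 1
    ring
  have hNinj : Function.Injective N := by
    have key : ∀ a, N a = 1 → a = (0, 0) := by
      rintro ⟨v, k⟩ h
      have h1 := hcommN v e2 k 0
      have h2 := hcommN v e1 k 0
      rw [h, one_mul, mul_one] at h1 h2
      have e1' := hpwz _ (mul_eq_left.mp h1.symm)
      have e2' := hpwz _ (mul_eq_left.mp h2.symm)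
      simp [om, e1, e2] at e1' e2'
      have hne : (2 : ZMod 3) ≠ 0 := two_ne
      have v0 : v 0 = 0 := (mul_eq_zero.mp (show (2 : ZMod 3) * v 0 = 0 by simpa using e1')).resolve_left hne
      have v1 : v 1 = 0 := (mul_eq_zero.mp (show (2 : ZMod 3) * v 1 = 0 by simpa using e2')).resolve_left hne
      have hv : v = 0 := by funext i; fin_cases i <;> assumption
      subst hv
      rw [hN0] at h
      rw [hpwz k h]
    intro a b hab
    have hinv : N (hmul a (-b.1, -b.2)) = 1 := by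
      rw [hN, hab, ← hN, ← hN1]
      congr 1
      simp [hmul, om]
      ring
    have := key _ hinv
    simp [hmul] at this
    obtain ⟨h1, h2⟩ := this
    have h1' : a.1 = b.1 := by rwa [← sub_eq_add_neg, sub_eq_zero] at h1
    refine Prod.ext h1' ?_
    rw [h1'] at h2
    simp [om] at h2
    linear_combination h2
  have hNsurj : ∀ r ∈ R, ∃ a, N a = r := by
    have hbij : Function.Bijective (fun a : H => (⟨N a, hNR a⟩ : R)) :=
      Function.Injective.bijective_of_nat_card_le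
        (fun a b h => hNinj (congrArg Subtype.val h))
        (by rw [hRcard, Nat.card_eq_fintype_card]; simp)
    intro r hr
    obtain ⟨a, ha⟩ := hbij.2 ⟨r, hr⟩
    exact ⟨a, congrArg Subtype.val ha⟩
  have hZN : ∀ a, N a ∈ Z ↔ a.1 = 0 := by
    rintro ⟨v, k⟩
    refine ⟨fun h => ?_, fun h => by subst h; exact hN0Z k⟩
    have h1 := hZcen _ h (N (e2, 0)) (hNR _)
    have h2 := hZcen _ h (N (e1, 0)) (hNR _)
    rw [hcommN v e2 k 0] at h1
    rw [hcommN v e1 k 0] at h2
    have e1' := hpwz _ (mul_eq_left.mp h1.symm)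
    have e2' := hpwz _ (mul_eq_left.mp h2.symm)
    simp [om, e1, e2] at e1' e2'
    have hne : (2 : ZMod 3) ≠ 0 := two_ne
    funext i
    fin_cases i
    · exact (mul_eq_zero.mp (show (2 : ZMod 3) * v 0 = 0 by simpa using e1')).resolve_left hne
    · exact (mul_eq_zero.mp (show (2 : ZMod 3) * v 1 = 0 by simpa using e2')).resolve_left hne
  -- the action
  have hRn : R.Normal := inferInstance
  choose f hf using fun (g : X) (a : H) => hNsurj (g * N a * g⁻¹) (hRn.conj_mem _ (hNR a) g)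
  have fmul : ∀ g a b, f g (hmul a b) = hmul (f g a) (f g b) := fun g a b => hNinj (by
    rw [hN, hf, hf, hf, hN]; group)
  have fcen : ∀ g k, (f g (0, k)).1 = 0 := fun g k => by
    rw [← hZN, hf]
    refine hZof _ (hRn.conj_mem _ (hNR _) g) fun r hr => ?_
    have hc := hZcen _ (hN0Z k) (g⁻¹ * r * g) (by simpa using hRn.conj_mem r hr g⁻¹)
    calc r * (g * N (0, k) * g⁻¹) = g * ((g⁻¹ * r * g) * N (0, k)) * g⁻¹ := by group
      _ = _ := by rw [hc]; group
  have flin : ∀ g v v', (f g (v + v', 0)).1 = (f g (v, 0)).1 + (f g (v', 0)).1 := fun g v v' => by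
    have e : hmul (v + v', 0) (0, om v v') = hmul (v, 0) (v', 0) := by simp [hmul, om]
    have := congrArg (fun a => (f g a).1) e
    rw [fmul, fmul] at this
    simpa [hmul, fcen] using this
  let M : X → Matrix (Fin 2) (Fin 2) (ZMod 3) := fun g =>
    !![(f g (e1, 0)).1 0, (f g (e2, 0)).1 0; (f g (e1, 0)).1 1, (f g (e2, 0)).1 1]
  have fM : ∀ g v k, (f g (v, k)).1 = M g *ᵥ v := by
    intro g v k
    let A : V2 →+ V2 := AddMonoidHom.mk' (fun v => (f g (v, 0)).1) (flin g)
    have hv : v = v 0 • e1 + v 1 • e2 := by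
      funext i; fin_cases i <;> simp [e1, e2]
    have hk : (v, k) = hmul (v, 0) (0, k) := by simp [hmul, om]
    rw [hk, fmul]
    simp only [hmul, fcen, add_zero]
    show A v = _
    conv_lhs => rw [hv]
    rw [map_add, ZMod.map_smul, ZMod.map_smul]
    funext i
    fin_cases i <;>
      simp [A, M, Matrix.mulVec, dotProduct, Fin.sum_univ_two] <;> ring
  have Mof : ∀ g A, (∀ v, ∃ k, g * N (v, 0) * g⁻¹ = N (A *ᵥ v, k)) → M g = A := by
    intro g A h
    have hcol : ∀ v, M g *ᵥ v = A *ᵥ v := fun v => by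
      obtain ⟨k, hk⟩ := h v
      rw [← fM g v 0, hNinj ((hf g (v, 0)).trans hk)]
    exact Matrix.toLin'.injective (LinearMap.ext fun v => by simpa using hcol v)
  have conjN : ∀ g v k, ∃ k', g * N (v, k) * g⁻¹ = N (M g *ᵥ v, k') := fun g v k =>
    ⟨(f g (v, k)).2, by rw [← fM g v k]; exact (hf g (v, k)).symm⟩
  have Mmul : ∀ g g', M (g * g') = M g * M g' := fun g g' => Mof _ _ fun v => by
    obtain ⟨k, hk⟩ := conjN g' v 0
    obtain ⟨k', hk'⟩ := conjN g (M g' *ᵥ v) k
    refine ⟨k', ?_⟩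
    rw [← Matrix.mulVec_mulVec, ← hk', ← hk]; group
  have M1 : M 1 = 1 := Mof _ _ fun v => ⟨0, by simp⟩
  have MR : ∀ r ∈ R, M r = 1 := fun r hr => Mof _ _ fun v => by
    obtain ⟨⟨v', k'⟩, rfl⟩ := hNsurj r hr
    refine ⟨2 * om v' v, ?_⟩
    rw [Matrix.one_mulVec, hcommN v' v k' 0, mul_inv_eq_iff_eq_mul,
      show N (v, 2 * om v' v) = N (v, 0) * pw z (2 * om v' v) by
        rw [← hN0, ← hN]; simp [hmul, om],
      mul_assoc, mul_assoc]
    congr 1
    exact hZcen _ (Z.pow_mem hzZ _) _ (hNR _)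
  let π : X →* S23 := (e : X ⧸ R →* S23).comp (QuotientGroup.mk' R)
  have hπs : Function.Surjective π := e.surjective.comp (QuotientGroup.mk'_surjective R)
  have hπ1 : ∀ x, π x = 1 ↔ x ∈ R := fun x => by simp [π]
  -- faithfulness
  have Mfaith : ∀ g, M g = 1 → g ∈ R := by
    let K : Subgroup X :=
      { carrier := {g | M g = 1}
        one_mem' := M1
        mul_mem' := fun {a b} ha hb => by show M _ = 1; rw [Mmul, ha, hb, one_mul]
        inv_mem' := fun {a} ha => by
          show M _ = 1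
          have h := Mmul a a⁻¹
          rw [mul_inv_cancel, M1, ha, one_mul] at h
          exact h.symm }
    have hKn : K.Normal := ⟨fun a ha g => by
      show M _ = 1
      rw [Mmul, Mmul, show M a = 1 from ha, mul_one, ← Mmul, mul_inv_cancel, M1]⟩
    intro g hg
    by_contra hgR
    have hne : π g ≠ 1 := fun h => hgR ((hπ1 g).mp h)
    haveI : (K.map π).Normal := hKn.map π hπs
    have hgK : π g ∈ K.map π := ⟨g, hg, rfl⟩
    have hneg : negOne ∈ K.map π := by
      rcases negOne_mem (π g) hne with h | h | h | ⟨B, h | h⟩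
      · rwa [← h]
      · rw [← h]; exact mul_mem hgK hgK
      · rw [← h]; exact mul_mem (mul_mem hgK hgK) hgK
      · rw [← h]
        have := Subgroup.Normal.conj_mem (H := K.map π) inferInstance _ hgK B
        exact mul_mem (mul_mem hgK this) (mul_mem hgK this)
      · rw [← h]
        have := Subgroup.Normal.conj_mem (H := K.map π) inferInstance _ hgK B
        exact mul_mem (mul_mem (mul_mem hgK hgK) this) (mul_mem (mul_mem hgK hgK) this)
    obtain ⟨s₀, hs₀, hs₀π⟩ := hneg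
    set s := s₀ ^ 3 with hsdef
    have hs2 : s * s = 1 := by
      have h2 : s₀ * s₀ ∈ R := (hπ1 _).mp (by rw [map_mul, hs₀π]; decide +kernel)
      rw [hsdef, ← pow_add, show 3 + 3 = 2 * 3 by norm_num, pow_mul, pow_two]
      exact hRexp _ h2
    have hsM : M s = 1 := K.pow_mem hs₀ 3
    have hsπ : π s = negOne := by rw [hsdef, map_pow, hs₀π]; decide +kernel
    have hsz : ∀ v k, s * N (v, k) * s⁻¹ = N (v, k) := by
      have base : ∀ v, ∃ k, s * N (v, 0) * s⁻¹ = N (v, k) := fun v => by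
        obtain ⟨k, hk⟩ := conjN s v 0; rw [hsM, Matrix.one_mulVec] at hk; exact ⟨k, hk⟩
      have sz : ∀ k, s * N (0, k) * s⁻¹ = N (0, k) := by
        obtain ⟨a, ha⟩ := base e1
        obtain ⟨b, hb⟩ := base e2
        have hzc : s * z * s⁻¹ = z := by
          calc s * z * s⁻¹ = (s * N (e1, 0) * s⁻¹ * (s * N (e2, 0) * s⁻¹))⁻¹ *
              (s * N (e2, 0) * s⁻¹ * (s * N (e1, 0) * s⁻¹)) := by rw [hNu, hNw, hzdef]; group
            _ = (N (e1, a) * N (e2, b))⁻¹ * (N (e2, b) * N (e1, a)) := by rw [ha, hb]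
            _ = z := by
              rw [hcommN e2 e1 b a, ← mul_assoc, inv_mul_cancel, one_mul]
              have : (2 * om e2 e1 : ZMod 3) = 1 := om_e.1
              rw [this, pw_one]
        intro k
        rw [hN0, pw]
        have : Commute s z := mul_inv_eq_iff_eq_mul.mp hzc
        rw [(this.pow_right _).eq, mul_inv_cancel_right]
      have hv : ∀ v, s * N (v, 0) * s⁻¹ = N (v, 0) := by
        intro v
        obtain ⟨k, hk⟩ := base v
        have h2 : s * (s * N (v, 0) * s⁻¹) * s⁻¹ = N (v, 0) := by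
          calc s * (s * N (v, 0) * s⁻¹) * s⁻¹ = (s * s) * N (v, 0) * (s * s)⁻¹ := by group
            _ = _ := by rw [hs2]; simp
        rw [hk, show N (v, k) = N (v, 0) * N (0, k) by rw [← hN]; simp [hmul, om],
          show s * (N (v, 0) * N (0, k)) * s⁻¹ = (s * N (v, 0) * s⁻¹) * (s * N (0, k) * s⁻¹) by group,
          hk, sz, ← hN, show hmul (v, k) (0, k) = (v, k + k) by simp [hmul, om]] at h2
        have hkk : k + k = 0 := congrArg Prod.snd (hNinj h2)
        rw [hk, (add_self_eq k).2.2 hkk]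
      intro v k
      rw [show N (v, k) = N (v, 0) * N (0, k) by rw [← hN]; simp [hmul, om],
        show s * (N (v, 0) * N (0, k)) * s⁻¹ = (s * N (v, 0) * s⁻¹) * (s * N (0, k) * s⁻¹) by group,
        hv, sz]
    have hscen : ∀ x : X, x * s * x⁻¹ = s := by
      intro x
      set r := s⁻¹ * (x * s * x⁻¹)
      have hr : r ∈ R := (hπ1 _).mp (by
        simp only [r, map_mul, map_inv, hsπ]
        have hc : ∀ A : S23, negOne⁻¹ * (A * negOne * A⁻¹) = 1 := by decide +kernel
        exact hc _)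
      obtain ⟨⟨v, k⟩, hvk⟩ := hNsurj r hr
      have hsr : Commute s r := by rw [← hvk]; exact mul_inv_eq_iff_eq_mul.mp (hsz v k)
      have hxs : x * s * x⁻¹ = s * r := by simp only [r, mul_inv_cancel_left]
      have h2 : r * r = 1 := by
        have h : (x * s * x⁻¹) * (x * s * x⁻¹) = 1 := by
          calc (x * s * x⁻¹) * (x * s * x⁻¹) = x * (s * s) * x⁻¹ := by group
            _ = 1 := by rw [hs2, mul_one, mul_inv_cancel]
        rw [hxs, show s * r * (s * r) = s * (r * s) * r by group, ← hsr.eq,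
          show s * (s * r) * r = (s * s) * (r * r) by group, hs2, one_mul] at h
        exact h
      have h3 := hRexp r hr
      rw [pow_succ, pow_two, h2, one_mul] at h3
      rw [hxs, h3, mul_one]
    have hs1 : s ≠ 1 := fun h => by
      rw [h, map_one] at hsπ; revert hsπ; decide +kernel
    have hmem : s ∈ Cfsg.pCore 2 X := by
      refine (le_sSup ?_ : Subgroup.zpowers s ≤ Cfsg.pCore 2 X) (Subgroup.mem_zpowers s)
      refine ⟨⟨fun a ha g => ?_⟩, IsPGroup.of_card (n := 1) ?_⟩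
      · obtain ⟨i, rfl⟩ := Subgroup.mem_zpowers_iff.mp ha
        rw [← conj_zpow, hscen]; exact Subgroup.zpow_mem_zpowers s i
      · rw [Nat.card_zpowers, orderOf_eq_prime (by rw [pow_two]; exact hs2) hs1, pow_one]
    exact hs1 (Subgroup.mem_bot.mp (hO2 ▸ hmem))
  have hdet : ∀ g, (M g).det = 1 := by
    let d : X → ZMod 3 := fun g => (M g).det
    have dmul : ∀ a b, d (a * b) = d a * d b := fun a b => by simp only [d, Mmul, Matrix.det_mul]
    have dR : ∀ r ∈ R, d r = 1 := fun r hr => by simp [d, MR r hr]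
    have dsq : ∀ a, d a * d a = 1 := fun a => by
      have h : d a * d a⁻¹ = 1 := by rw [← dmul, mul_inv_cancel]; simp [d, M1]
      exact sq_unit _ _ h
    intro g
    obtain ⟨B, C, hBC⟩ := sq_sq (π g)
    obtain ⟨b, rfl⟩ := hπs B
    obtain ⟨c, rfl⟩ := hπs C
    have hr : (b * b * (c * c))⁻¹ * g ∈ R := (hπ1 _).mp (by
      rw [map_mul, map_inv, map_mul, map_mul, map_mul, ← hBC, inv_mul_cancel])
    show d g = 1
    rw [show g = (b * b * (c * c)) * ((b * b * (c * c))⁻¹ * g) by rw [mul_inv_cancel_left],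
      dmul, dR _ hr, mul_one, dmul, dmul, dmul, dsq, dsq, one_mul]
  let μ : X →* S23 :=
    { toFun := fun g => ⟨M g, hdet g⟩
      map_one' := Subtype.ext M1
      map_mul' := fun a b => Subtype.ext (Mmul a b) }
  have hμk : ∀ g, μ g = 1 ↔ g ∈ R := fun g =>
    ⟨fun h => Mfaith g (congrArg Subtype.val h), fun h => Subtype.ext (MR g h)⟩
  have hμs : Function.Surjective μ := by
    let q : S23 → S23 := fun A => μ (Function.surjInv hπs A)
    have hq : Function.Injective q := by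
      intro A B h
      rw [← Function.surjInv_eq hπs A, ← Function.surjInv_eq hπs B]
      have h1 : μ ((Function.surjInv hπs A)⁻¹ * Function.surjInv hπs B) = 1 := by
        rw [map_mul, map_inv]; exact inv_mul_eq_one.mpr h
      have h2 := (hπ1 _).mpr ((hμk _).mp h1)
      rw [map_mul, map_inv] at h2
      exact inv_mul_eq_one.mp h2
    intro A
    obtain ⟨B, hB⟩ := (Finite.injective_iff_surjective.mp hq) A
    exact ⟨_, hB⟩
  -- the involution
  obtain ⟨s₀, hs₀⟩ := hμs negOne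
  set s := s₀ ^ 3 with hsdef
  have hs2 : s * s = 1 := by
    have h2 : s₀ * s₀ ∈ R := (hμk _).mp (by rw [map_mul, hs₀]; decide +kernel)
    rw [hsdef, ← pow_add, show 3 + 3 = 2 * 3 by norm_num, pow_mul, pow_two]
    exact hRexp _ h2
  have hsμ : μ s = negOne := by rw [hsdef, map_pow, hs₀]; decide +kernel
  have hsi : s⁻¹ = s := inv_eq_of_mul_eq_one_right hs2
  have hconjs : ∀ v k, ∃ k', s * N (v, k) * s⁻¹ = N (-v, k') := fun v k => by
    obtain ⟨k', hk'⟩ := conjN s v k
    have : M s = (negOne : Matrix (Fin 2) (Fin 2) (ZMod 3)) := congrArg Subtype.val hsμ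
    rw [this, negOne_mulVec] at hk'
    exact ⟨k', hk'⟩
  have hsz : ∀ k, s * N (0, k) * s⁻¹ = N (0, k) := by
    obtain ⟨a, ha⟩ := hconjs e1 0
    obtain ⟨b, hb⟩ := hconjs e2 0
    have hzc : s * z * s⁻¹ = z := by
      calc s * z * s⁻¹ = (s * N (e1, 0) * s⁻¹ * (s * N (e2, 0) * s⁻¹))⁻¹ *
          (s * N (e2, 0) * s⁻¹ * (s * N (e1, 0) * s⁻¹)) := by rw [hNu, hNw, hzdef]; group
        _ = (N (-e1, a) * N (-e2, b))⁻¹ * (N (-e2, b) * N (-e1, a)) := by rw [ha, hb]
        _ = z := by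
          rw [hcommN (-e2) (-e1) b a, ← mul_assoc, inv_mul_cancel, one_mul]
          have : (2 * om (-e2) (-e1) : ZMod 3) = 1 := om_e.2
          rw [this, pw_one]
    intro k
    rw [hN0, pw]
    have : Commute s z := mul_inv_eq_iff_eq_mul.mp hzc
    rw [(this.pow_right _).eq, mul_inv_cancel_right]
  have hsplit : ∀ v k, N (v, k) = N (v, 0) * N (0, k) := fun v k => by rw [← hN]; simp [hmul, om]
  -- adjust the coordinates so that `s` inverts `N (v, 0)`
  choose κ hκ using fun v => hconjs v 0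
  have hκadd : ∀ v v', κ (v + v') = κ v + κ v' := by
    intro v v'
    have h1 : s * (N (v, 0) * N (v', 0)) * s⁻¹ = N (-v, κ v) * N (-v', κ v') := by
      rw [← hκ, ← hκ]; group
    rw [← hN, ← hN, show hmul (v, (0 : ZMod 3)) (v', 0) = hmul (v + v', 0) (0, om v v') by simp [hmul, om],
      hN, show s * (N (v + v', 0) * N (0, om v v')) * s⁻¹ =
        (s * N (v + v', 0) * s⁻¹) * (s * N (0, om v v') * s⁻¹) by group, hκ, hsz, ← hN] at h1
    have := congrArg Prod.snd (hNinj h1)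
    simp [hmul, om] at this
    linear_combination this
  let ι : H → X := fun a => N (a.1, a.2 + κ a.1)
  have hι : ∀ a b, ι (hmul a b) = ι a * ι b := by
    intro a b
    simp only [ι, ← hN]
    congr 1
    simp only [hmul, hκadd]
    exact Prod.ext rfl (by ring)
  have hιR : ∀ a, ι a ∈ R := fun a => hNR _
  have hιinj : Function.Injective ι := by
    intro a b h
    have := hNinj h
    simp only [Prod.mk.injEq] at this
    obtain ⟨h1, h2⟩ := this
    refine Prod.ext h1 ?_
    rw [h1] at h2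
    linear_combination h2
  have hιsurj : ∀ r ∈ R, ∃ a, ι a = r := fun r hr => by
    obtain ⟨⟨v, k⟩, rfl⟩ := hNsurj r hr
    exact ⟨(v, k - κ v), by simp [ι]⟩
  have hκ0 : κ 0 = 0 := by
    have h := hκadd 0 0
    rw [add_zero] at h
    linear_combination -h
  have hsι : ∀ v k, s * ι (v, k) * s⁻¹ = ι (-v, k) := by
    intro v k
    simp only [ι]
    rw [hsplit v, show s * (N (v, 0) * N (0, k + κ v)) * s⁻¹ =
      (s * N (v, 0) * s⁻¹) * (s * N (0, k + κ v) * s⁻¹) by group, hκ, hsz, ← hN]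
    congr 1
    have hn := hκadd v (-v)
    rw [add_neg_cancel, hκ0] at hn
    refine Prod.ext (by simp [hmul]) ?_
    simp [hmul, om]
    have h3 : (3 : ZMod 3) = 0 := three_eq
    linear_combination (κ v) * h3 + hn
  have hι0z : ∀ k, ι (0, k) ∈ Z := fun k => by simp only [ι]; exact hN0Z _
  have hιfix : ∀ v k, s * ι (v, k) * s⁻¹ = ι (v, k) → v = 0 := by
    intro v k h
    rw [hsι] at h
    have h1 : -v = v := congrArg Prod.fst (hιinj h)
    refine (vadd_self_eq v).2.2 ?_
    nth_rewrite 1 [← h1]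
    exact neg_add_cancel v
  have hι00 : ι (0, 0) = 1 := by
    have := hι (0, 0) (0, 0)
    rw [show hmul ((0 : V2), (0 : ZMod 3)) (0, 0) = (0, 0) by simp [hmul, om]] at this
    exact mul_eq_left.mp this.symm
  -- the centraliser of the involution
  let L : Subgroup X := Subgroup.centralizer ({s} : Set X)
  have hL : ∀ x, x ∈ L ↔ x * s = s * x := fun x => by
    rw [Subgroup.mem_centralizer_singleton_iff]
  have hLsurj : ∀ A, ∃ g ∈ L, μ g = A := by
    intro A
    obtain ⟨g, rfl⟩ := hμs A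
    have hr : s⁻¹ * (g * s * g⁻¹) ∈ R := (hμk _).mp (by
      simp only [map_mul, map_inv, hsμ]
      have hc : ∀ A : S23, negOne⁻¹ * (A * negOne * A⁻¹) = 1 := by decide +kernel
      exact hc _)
    obtain ⟨⟨v, k⟩, hvk⟩ := hιsurj _ hr
    have hgs : g * s * g⁻¹ = s * ι (v, k) := by rw [hvk, mul_inv_cancel_left]
    have hk0 : k = 0 := by
      have h : (g * s * g⁻¹) * (g * s * g⁻¹) = 1 := by
        calc (g * s * g⁻¹) * (g * s * g⁻¹) = g * (s * s) * g⁻¹ := by group
          _ = 1 := by rw [hs2, mul_one, mul_inv_cancel]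
      rw [hgs] at h
      have e : s * ι (v, k) * (s * ι (v, k)) = (s * ι (v, k) * s⁻¹) * ι (v, k) := by
        rw [hsi]; group
      rw [e, hsι, ← hι, ← hι00] at h
      have := congrArg Prod.snd (hιinj h)
      simp [hmul, (om_neg v).2.2] at this
      exact (add_self_eq k).2.2 this
    subst hk0
    refine ⟨(ι (v, 0))⁻¹ * g, (hL _).mpr ?_, ?_⟩
    · have hgs' : g * s = s * ι (v, 0) * g := mul_inv_eq_iff_eq_mul.mp hgs
      have key : (ι (v, 0))⁻¹ * s * ι (v, 0) = s * (ι (v, 0))⁻¹ := by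
        have hsq : ι (v, 0) * ι (v, 0) = (ι (v, 0))⁻¹ := by
          apply eq_inv_of_mul_eq_one_left
          have := hRexp _ (hιR (v, 0))
          rwa [pow_succ, pow_two] at this
        have hneg : ι (-v, 0) = (ι (v, 0))⁻¹ := by
          apply eq_inv_of_mul_eq_one_left
          rw [← hι, ← hι00]; simp [hmul, (om_neg v).2.2]
        have h := hsι v 0
        rw [hneg] at h
        have hsv : s * ι (v, 0) = (ι (v, 0))⁻¹ * s := mul_inv_eq_iff_eq_mul.mp h
        rw [← hsv, mul_assoc, hsq]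
      calc (ι (v, 0))⁻¹ * g * s = (ι (v, 0))⁻¹ * (g * s) := by group
        _ = ((ι (v, 0))⁻¹ * s * ι (v, 0)) * g := by rw [hgs']; group
        _ = s * ((ι (v, 0))⁻¹ * g) := by rw [key, mul_assoc]
    · rw [map_mul, map_inv, (hμk _).mpr (hιR _), inv_one, one_mul]
  -- an element of order three over the transvection
  obtain ⟨E, hEc, hE3, hEcard⟩ := hE
  obtain ⟨y, hy3, hyμ, hyc⟩ : ∃ y : X, y ^ 3 = 1 ∧ μ y = trv ∧
      ∃ c ∈ R, c ∉ Z ∧ y * c * y⁻¹ = c := by
    obtain ⟨y, hyE, hyR⟩ : ∃ y ∈ E, y ∉ R := by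
      by_contra h; push Not at h
      have hER : E = R := Subgroup.eq_of_le_of_card_ge h (by rw [hEcard, hRcard])
      exact huw (congrArg Subtype.val (hEc.is_comm.comm (⟨w, hER.symm.le hwR⟩ : E) ⟨u, hER.symm.le huR⟩))
    obtain ⟨c, hcE, hcR, hcZ⟩ : ∃ c ∈ E, c ∈ R ∧ c ∉ Z := by
      by_contra h; push Not at h
      have h1 := (μ.subgroupMap E).ker.card_mul_index
      rw [Subgroup.index_ker, hEcard] at h1
      have h2 : Nat.card (μ.subgroupMap E).ker ≤ 3 := by
        refine le_of_le_of_eq (Nat.card_le_card_of_injective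
          (fun x => (⟨((x : E) : X), h _ (x : E).2 ((hμk _).mp (congrArg Subtype.val x.2))⟩ : Z))
          fun a b hab => Subtype.ext (Subtype.ext (congrArg (fun t : Z => (t : X)) hab))) hZc
      have h3 : Nat.card (μ.subgroupMap E).range ≤ Nat.card (E.map μ) :=
        Subgroup.card_le_card_group _
      have h4 : IsPGroup 3 (E.map μ) := by
        refine IsPGroup.map ?_ μ
        exact IsPGroup.of_card (n := 3) (by rw [hEcard]; norm_num)
      obtain ⟨n, hn⟩ := IsPGroup.iff_card.mp h4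
      have h5 : Nat.card (E.map μ) ∣ 24 := by
        have := Subgroup.card_subgroup_dvd_card (E.map μ)
        rwa [Nat.card_eq_fintype_card (α := S23), card_S23] at this
      have h6 : Nat.card (E.map μ) ≤ 3 := by
        rw [hn] at h5 ⊢
        by_contra hc
        have : 2 ≤ n := by
          by_contra hn2
          interval_cases n <;> simp at hc
        have := (pow_dvd_pow 3 this).trans h5
        norm_num at this
      have := Nat.mul_le_mul h2 (h3.trans h6)
      omega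
    have hμy : μ y ≠ 1 := fun h => hyR ((hμk y).mp h)
    have hμy3 : μ y * μ y * μ y = 1 := by
      rw [← map_mul, ← map_mul, ← pow_two, ← pow_succ, hE3 y hyE, map_one]
    have hyc : y * c * y⁻¹ = c := by
      rw [show y * c = c * y from congrArg Subtype.val (hEc.is_comm.comm (⟨y, hyE⟩ : E) ⟨c, hcE⟩),
        mul_inv_cancel_right]
    have hy2 : y * y ∈ E := E.mul_mem hyE hyE
    have hy2c : (y * y) * c * (y * y)⁻¹ = c := by
      rw [show (y * y) * c = c * (y * y) from
        congrArg Subtype.val (hEc.is_comm.comm (⟨y * y, hy2⟩ : E) ⟨c, hcE⟩), mul_inv_cancel_right]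
    have hconj : ∀ y' b : X, y' ^ 3 = 1 → y' * c * y'⁻¹ = c → (b * y' * b⁻¹) ^ 3 = 1 ∧
        (b * y' * b⁻¹) * (b * c * b⁻¹) * (b * y' * b⁻¹)⁻¹ = b * c * b⁻¹ := fun y' b h3 hc =>
      ⟨by rw [conj_pow, h3, mul_one, mul_inv_cancel],
        by rw [show (b * y' * b⁻¹) * (b * c * b⁻¹) * (b * y' * b⁻¹)⁻¹ = b * (y' * c * y'⁻¹) * b⁻¹ by group,
          hc]⟩
    have hbc : ∀ b : X, b * c * b⁻¹ ∈ R ∧ b * c * b⁻¹ ∉ Z := fun b => by
      refine ⟨hRn.conj_mem c hcR b, fun h => hcZ ?_⟩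
      refine hZof c hcR fun r hr => ?_
      have := hZcen _ h (b * r * b⁻¹) (hRn.conj_mem r hr b)
      calc r * c = b⁻¹ * ((b * r * b⁻¹) * (b * c * b⁻¹)) * b := by group
        _ = c * r := by rw [this]; group
    obtain ⟨B, hB | hB⟩ := conj_trv (μ y) hμy3 hμy
    · obtain ⟨b, rfl⟩ := hμs B
      obtain ⟨h3, hc⟩ := hconj y b (hE3 y hyE) hyc
      exact ⟨_, h3, by rw [map_mul, map_mul, map_inv, hB], _, (hbc b).1, (hbc b).2, hc⟩
    · obtain ⟨b, rfl⟩ := hμs B
      obtain ⟨h3, hc⟩ := hconj (y * y) b (hE3 _ hy2) hy2c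
      exact ⟨_, h3, by rw [map_mul, map_mul, map_inv, map_mul, hB], _, (hbc b).1, (hbc b).2, hc⟩
  obtain ⟨g, hgL, hgμ⟩ := hLsurj trv
  obtain ⟨⟨v, k⟩, hvk⟩ := hιsurj (y * g⁻¹) ((hμk _).mp (by rw [map_mul, map_inv, hyμ, hgμ, mul_inv_cancel]))
  have hgs : g * s * g⁻¹ = s := by rw [(hL g).mp hgL, mul_inv_cancel_right]
  -- conjugation by elements of `L`
  have hLconj : ∀ x ∈ L, ∀ v k, x * ι (v, k) * x⁻¹ = ι ((μ x : Matrix (Fin 2) (Fin 2) (ZMod 3)) *ᵥ v, k) := by
    intro x hx
    have hxs : x⁻¹ * s * x = s := by rw [mul_assoc, ← (hL x).mp hx, inv_mul_cancel_left]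
    have hLv : ∀ v, x * ι (v, 0) * x⁻¹ = ι ((μ x : Matrix (Fin 2) (Fin 2) (ZMod 3)) *ᵥ v, 0) := by
      intro v
      obtain ⟨⟨v', k'⟩, hv'⟩ := hιsurj _ (hRn.conj_mem _ (hιR (v, 0)) x)
      have e1' : v' = (μ x : Matrix (Fin 2) (Fin 2) (ZMod 3)) *ᵥ v := by
        obtain ⟨k'', hk''⟩ := conjN x v (0 + κ v)
        exact congrArg Prod.fst (hNinj (show N (v', k' + κ v') = N (M x *ᵥ v, k'') from hv'.trans hk''))
      subst e1'
      set v' := (μ x : Matrix (Fin 2) (Fin 2) (ZMod 3)) *ᵥ v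
      have h1 : s * (x * ι (v, 0) * x⁻¹) * s⁻¹ * (x * ι (v, 0) * x⁻¹) = 1 := by
        have h0 : s * ι (v, 0) * s⁻¹ * ι (v, 0) = 1 := by
          rw [hsι, ← hι, ← hι00]; simp [hmul, (om_neg v).2.2]
        calc s * (x * ι (v, 0) * x⁻¹) * s⁻¹ * (x * ι (v, 0) * x⁻¹)
            = x * ((x⁻¹ * s * x) * ι (v, 0) * (x⁻¹ * s * x)⁻¹ * ι (v, 0)) * x⁻¹ := by group
          _ = 1 := by rw [hxs, h0, mul_one, mul_inv_cancel]
      rw [← hv', hsι, ← hι, ← hι00] at h1
      have := congrArg Prod.snd (hιinj h1)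
      simp [hmul, (om_neg v').2.2] at this
      rw [← hv', (add_self_eq k').2.2 this]
    intro v k
    have hze : x * ι (0, 1) * x⁻¹ = ι (0, 1) := by
      have e : ι (0, 1) = ι (e1, 0) * ι (e2, 0) * (ι (e1 + e2, 0))⁻¹ := by
        rw [eq_mul_inv_iff_mul_eq, ← hι, ← hι]
        congr 1
        exact Prod.ext (by simp [hmul]) (by simp [hmul, om, e1, e2])
      conv_lhs => rw [e]
      rw [show x * (ι (e1, 0) * ι (e2, 0) * (ι (e1 + e2, 0))⁻¹) * x⁻¹ =
        (x * ι (e1, 0) * x⁻¹) * (x * ι (e2, 0) * x⁻¹) * (x * ι (e1 + e2, 0) * x⁻¹)⁻¹ by group,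
        hLv, hLv, hLv, mul_inv_eq_iff_eq_mul, ← hι, ← hι]
      congr 1
      refine Prod.ext (by simp [hmul, Matrix.mulVec_add]) ?_
      have hd : ((μ x : Matrix (Fin 2) (Fin 2) (ZMod 3))).det = 1 := (μ x).2
      rw [Matrix.det_fin_two] at hd
      simp [hmul, om, e1, e2, Matrix.mulVec, dotProduct, Fin.sum_univ_two]
      linear_combination hd
    have hpow : ∀ n : ℕ, ι (0, (n : ZMod 3)) = (ι (0, 1)) ^ n := by
      intro n
      induction n with
      | zero => simp [hι00]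
      | succ n ih => rw [pow_succ, ← ih, ← hι]; simp [hmul, om]
    have hk : x * ι (0, k) * x⁻¹ = ι (0, k) := by
      rw [show k = ((k.val : ℕ) : ZMod 3) by simp, hpow, ← conj_pow, hze]
    rw [show ((v, k) : H) = hmul (v, 0) (0, k) by simp [hmul, om], hι,
      show x * (ι (v, 0) * ι (0, k)) * x⁻¹ = (x * ι (v, 0) * x⁻¹) * (x * ι (0, k) * x⁻¹) by group,
      hLv, hk, ← hι]
    simp [hmul, om]
  have hgconj := hLconj g hgL
  rw [hgμ] at hgconj
  have hy_eq : y = ι (v, k) * g := by rw [hvk, inv_mul_cancel_right]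
  have hv1 : v 1 = 0 := by
    obtain ⟨c, hcR, hcZ, hcc⟩ := hyc
    obtain ⟨⟨v₂, k₂⟩, rfl⟩ := hιsurj c hcR
    have hv2 : v₂ ≠ 0 := fun h => hcZ (h ▸ hι0z k₂)
    rw [hy_eq, show ι (v, k) * g * ι (v₂, k₂) * (ι (v, k) * g)⁻¹ =
      ι (v, k) * (g * ι (v₂, k₂) * g⁻¹) * (ι (v, k))⁻¹ by group, hgconj, mul_inv_eq_iff_eq_mul,
      ← hι, ← hι] at hcc
    have e := hιinj hcc
    simp only [hmul, Prod.mk.injEq] at e
    obtain ⟨e', e''⟩ := e
    have hfix : (trv : Matrix (Fin 2) (Fin 2) (ZMod 3)) *ᵥ v₂ = v₂ := by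
      rw [add_comm v₂ v] at e'; exact add_left_cancel e'
    have h1 := trv_fix v₂ hfix
    rw [hfix] at e''
    have h0 : v₂ 0 ≠ 0 := fun h => hv2 (by funext i; fin_cases i <;> assumption)
    simp only [om, h1, mul_zero, zero_mul] at e''
    have : (2 * v₂ 0) * v 1 = 0 := by linear_combination -e''
    exact (mul_eq_zero.mp this).resolve_left (mul_ne_zero two_ne h0)
  have hg3 : g ^ 3 = 1 := by
    have hcomm : Commute g (ι (v, k)) := by
      have := hgconj v k
      rw [trv_cube v hv1] at this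
      exact mul_inv_eq_iff_eq_mul.mp this
    have h := hy3
    rw [hy_eq, hcomm.symm.mul_pow, hRexp _ (hιR _), one_mul] at h
    exact h
  -- the complement
  let Z' : Subgroup L := (R ⊓ L).subgroupOf L
  haveI : Z'.Normal := by
    have : Z' = (R.subgroupOf L) := by
      ext x; simp [Z', Subgroup.mem_subgroupOf]
    rw [this]; infer_instance
  have hRL : ∀ r ∈ R ⊓ L, ∃ k, ι (0, k) = r := by
    rintro r ⟨hrR, hrL⟩
    obtain ⟨⟨v, k⟩, rfl⟩ := hιsurj r hrR
    exact ⟨k, by rw [hιfix v k (by rw [← (hL _).mp hrL, mul_inv_cancel_right])]⟩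
  haveI : IsMulCommutative Z' := ⟨⟨fun a b => Subtype.ext (Subtype.ext (by
    obtain ⟨i, hi⟩ := hRL _ (show ((a : L) : X) ∈ R ⊓ L from a.2)
    obtain ⟨j, hj⟩ := hRL _ (show ((b : L) : X) ∈ R ⊓ L from b.2)
    show ((a : L) : X) * ((b : L) : X) = ((b : L) : X) * ((a : L) : X)
    rw [← hi, ← hj, ← hι, ← hι]
    congr 1
    exact Prod.ext (add_comm _ _) (by simp [hmul, om, add_comm])))⟩⟩
  let gL : L := ⟨g, hgL⟩
  have hgL3 : gL ^ 3 = 1 := Subtype.ext hg3
  let A : Subgroup L := Subgroup.zpowers gL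
  have hAZ : A ⊓ Z' = ⊥ := by
    rw [eq_bot_iff]
    rintro x ⟨hxA, hxZ⟩
    obtain ⟨n, hn⟩ := (mem_powers_iff_mem_zpowers (x := gL)).mpr hxA
    simp only at hn
    have hn3 : gL ^ n = gL ^ (n % 3) := pow_eq_pow_mod n hgL3
    have hxR : μ (x : X) = 1 := (hμk _).mpr hxZ.1
    have hmod : trv ^ (n % 3) = 1 := by
      rw [← hn, show gL ^ n = gL ^ (n % 3) from hn3, SubgroupClass.coe_pow, map_pow, hgμ] at hxR
      exact hxR
    have : n % 3 = 0 := by
      have hlt : n % 3 < 3 := Nat.mod_lt _ (by norm_num)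
      have h12 : (trv : S23) ^ 1 ≠ 1 ∧ (trv : S23) ^ 2 ≠ 1 := by decide +kernel
      interval_cases h : n % 3
      · rfl
      · exact absurd hmod h12.1
      · exact absurd hmod h12.2
    refine Subgroup.mem_bot.mpr ?_
    rw [← hn, show gL ^ n = gL ^ (n % 3) from hn3, this, pow_zero]
  have hιL : ∀ k, ι (0, k) ∈ L := fun k => (hL _).mpr
    (mul_inv_eq_iff_eq_mul.mp ((hsι 0 k).trans (by rw [neg_zero]))).symm
  have hcZ' : Nat.card Z' ≤ 3 := by
    refine le_trans (Nat.card_le_card_of_surjective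
      (fun k : ZMod 3 => (⟨⟨ι (0, k), hιL k⟩, hιR _, hιL k⟩ : Z')) ?_) (by simp)
    intro x
    obtain ⟨k, hk⟩ := hRL _ (show ((x : L) : X) ∈ R ⊓ L from x.2)
    exact ⟨k, Subtype.ext (Subtype.ext hk)⟩
  have hcop : (Nat.card Z').Coprime (Z' ⊔ A).index := by
    let ν : L →* S23 := μ.comp L.subtype
    have hνs : Function.Surjective ν := fun B => by
      obtain ⟨x, hx, hxB⟩ := hLsurj B; exact ⟨⟨x, hx⟩, hxB⟩
    have hker : ν.ker = Z' := by
      ext x
      refine ⟨fun h => ⟨(hμk _).mp h, x.2⟩, fun h => (hμk _).mpr h.1⟩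
    have hcom : (((Z' ⊔ A).map ν).comap ν) = Z' ⊔ A :=
      Subgroup.comap_map_eq_self (hker ▸ le_sup_left)
    have hidx : (Z' ⊔ A).index = 8 := by
      rw [← hcom, Subgroup.index_comap_of_surjective _ hνs, Subgroup.map_sup,
        (Subgroup.map_eq_bot_iff Z').mpr hker.ge, bot_sup_eq, MonoidHom.map_zpowers]
      have h1 := (Subgroup.zpowers (ν gL)).card_mul_index
      rw [Nat.card_zpowers, Nat.card_eq_fintype_card (α := S23), card_S23,
        show ν gL = trv from hgμ, orderOf_eq_prime (p := 3) (show trv ^ 3 = 1 by decide +kernel) (by decide +kernel)] at h1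
      rw [show ν gL = trv from hgμ]
      omega
    rw [hidx]
    have hd : Nat.card Z' ∣ 27 := by
      rw [← hRcard, Nat.card_congr (Subgroup.subgroupOfEquivOfLe (inf_le_right : R ⊓ L ≤ L)).toEquiv]
      exact Subgroup.card_dvd_of_le (inf_le_left : R ⊓ L ≤ R)
    exact Nat.Coprime.coprime_dvd_left hd (by norm_num)
  obtain ⟨C, hC⟩ := CfsgLib.Gaschutz.exists_complement (K := Z') (U := Z' ⊔ A) le_sup_left hcop A
    le_sup_right hAZ rfl
  have hCex : ∀ B : S23, ∃ c : C, μ ((c : L) : X) = B := fun B => by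
    obtain ⟨x, hx, rfl⟩ := hLsurj B
    obtain ⟨⟨zz, c⟩, hzc, -⟩ := hC.existsUnique ⟨x, hx⟩
    refine ⟨c, ?_⟩
    have h := congrArg (fun t : L => μ (t : X)) hzc
    simp only [Subgroup.coe_mul, map_mul] at h
    have hz0 : μ ((zz : L) : X) = 1 := (hμk _).mpr zz.2.1
    rw [hz0, one_mul] at h
    exact h
  choose lam hlam using hCex
  have hCinj : ∀ a b : C, μ ((a : L) : X) = μ ((b : L) : X) → a = b := by
    intro a b h
    have hm : (((a⁻¹ * b : C) : L) : L) ∈ Z' := ⟨(hμk _).mp (by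
      show μ (((a : L) : X)⁻¹ * ((b : L) : X)) = 1
      rw [map_mul, map_inv, h, inv_mul_cancel]), ((a⁻¹ * b : C) : L).2⟩
    exact inv_mul_eq_one.mp (Subtype.ext (Subgroup.disjoint_def.mp hC.disjoint hm (a⁻¹ * b : C).2))
  have hlmul : ∀ A B, lam (A * B) = lam A * lam B := fun A B => hCinj _ _ (by
    show μ ((lam (A * B) : L) : X) = μ (((lam A : L) : X) * ((lam B : L) : X))
    rw [map_mul, hlam, hlam, hlam])
  refine ⟨fun t => ι t.1 * ((lam t.2 : L) : X), ⟨?_, ?_⟩, ?_⟩
  · intro a b h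
    have h2 : a.2 = b.2 := by
      have := congrArg μ h
      simpa [(hμk _).mpr (hιR _), hlam] using this
    refine Prod.ext (hιinj ?_) h2
    simp only at h
    rw [h2] at h
    exact mul_right_cancel h
  · intro x
    set B := μ x
    have hm : x * ((lam B : L) : X)⁻¹ ∈ R := (hμk _).mp (by rw [map_mul, map_inv, hlam, mul_inv_cancel])
    obtain ⟨a, ha⟩ := hιsurj _ hm
    exact ⟨(a, B), by simp [ha]⟩
  · rintro ⟨a, A'⟩ ⟨b, B'⟩
    simp only [tmul, hlmul, Subgroup.coe_mul, hι]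
    have := hLconj _ (lam A' : L).2 b.1 b.2
    rw [hlam] at this
    rw [← this]
    group

end CfsgLib.PSpFourThree
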