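import Mathlib
import Cfsg.Prelude.Def_Classical
import Cfsg.Agent.PSpFourThreeCent.Param

/-!
The centraliser of a transvection in `PSp₄(3)`.
-/

set_option autoImplicit false
set_option linter.unusedVariables false
set_option linter.unusedSimpArgs false

open Matrix

namespace CfsgLib.PSpFourThree

variable {F : Type*} [Field F]

/-- The position of an index. -/
def ix : Fin 2 ⊕ Fin 2 → Fin 4 := Sum.elim ![0, 1] ![2, 3]

/-- A 4 × 4 matrix by rows in the order `inl 0, inl 1, inr 0, inr 1`. -/
def ofRows (M : Matrix (Fin 4) (Fin 4) F) : Matrix (Fin 2 ⊕ Fin 2) (Fin 2 ⊕ Fin 2) F :=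
  Matrix.of fun i j => M (ix i) (ix j)

/-- The element with given parameters. -/
def W (p q c a b d h : F) : Matrix (Fin 2 ⊕ Fin 2) (Fin 2 ⊕ Fin 2) F :=
  ofRows !![1, p * d - q * a, c, p * h - q * b; 0, a, p, b; 0, 0, 1, 0; 0, d, q, h]

theorem W_mul (p q c a b d h p' q' c' a' b' d' h' : F) (hd : a * h - b * d = 1) :
    W p q c a b d h * W p' q' c' a' b' d' h' =
      W (p + (a * p' + b * q')) (q + (d * p' + h * q'))
        (c + c' + (p * (d * p' + h * q') - q * (a * p' + b * q')))
        (a * a' + b * d') (a * b' + b * h') (d * a' + h * d') (d * b' + h * h') := by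
  ext i j
  rcases i with i | i <;> rcases j with j | j <;> fin_cases i <;> fin_cases j <;>
    simp [W, ofRows, ix, Matrix.mul_apply, Fintype.sum_sum_type, Fin.sum_univ_two] <;>
    first
      | ring1
      | linear_combination (p' * d' - q' * a') * hd
      | linear_combination -(p' * d' - q' * a') * hd
      | linear_combination (p' * h' - q' * b') * hd
      | linear_combination -(p' * h' - q' * b') * hd

theorem W_symp (p q c a b d h : F) (hd : a * h - b * d = 1) :
    W p q c a b d h ∈ Matrix.symplecticGroup (Fin 2) F := by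
  rw [SymplecticGroup.mem_iff]
  ext i j
  rcases i with i | i <;> rcases j with j | j <;> fin_cases i <;> fin_cases j <;>
    simp [W, ofRows, ix, Matrix.J, Matrix.fromBlocks, Matrix.mul_apply, Fintype.sum_sum_type,
      Fin.sum_univ_two] <;>
    first
      | ring1
      | linear_combination hd
      | linear_combination -hd
      | linear_combination p * hd
      | linear_combination -p * hd
      | linear_combination q * hd
      | linear_combination -q * hd

theorem W_one : W (0 : F) 0 0 1 0 0 1 = 1 := by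
  ext i j
  rcases i with i | i <;> rcases j with j | j <;> fin_cases i <;> fin_cases j <;> simp [W, ofRows, ix]

theorem mem_cols {g : Matrix (Fin 2 ⊕ Fin 2) (Fin 2 ⊕ Fin 2) F}
    (hg : g ∈ Matrix.symplecticGroup (Fin 2) F) (i j : Fin 2 ⊕ Fin 2) :
    ∑ k : Fin 2, (g (.inr k) i * g (.inl k) j - g (.inl k) i * g (.inr k) j) =
      Matrix.J (Fin 2) F i j := by
  have h := congrFun (congrFun (SymplecticGroup.mem_iff'.mp hg) i) j
  rw [← h]
  rcases i with i | i <;> rcases j with j | j <;>
    simp [Matrix.J, Matrix.fromBlocks, Matrix.mul_apply, Fintype.sum_sum_type, Fin.sum_univ_two] <;> ring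

/-- An element of the symplectic group commuting with the transvection is one of the `W` up to sign. -/
theorem exists_W {g : Matrix (Fin 2 ⊕ Fin 2) (Fin 2 ⊕ Fin 2) F}
    (hg : g ∈ Matrix.symplecticGroup (Fin 2) F)
    (hc : g * W 0 0 1 1 0 0 1 = W 0 0 1 1 0 0 1 * g) :
    ∃ e p q c a b d h : F, e * e = 1 ∧ a * h - b * d = 1 ∧ g = e • W p q c a b d h := by
  have k1 := congrFun (congrFun hc (.inl 0)) (.inl 1)
  have k2 := congrFun (congrFun hc (.inl 0)) (.inr 0)
  have k3 := congrFun (congrFun hc (.inl 0)) (.inr 1)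
  have k4 := congrFun (congrFun hc (.inl 1)) (.inr 0)
  have k5 := congrFun (congrFun hc (.inr 1)) (.inr 0)
  have k6 := congrFun (congrFun hc (.inl 0)) (.inl 0)
  simp [W, ofRows, ix, Matrix.mul_apply, Fintype.sum_sum_type, Fin.sum_univ_two] at k1 k2 k3 k4 k5 k6
  -- the first column is a multiple of the fixed vector, the third row is zero off the third column
  have r0 : g (.inr 0) (.inl 0) = 0 := by linear_combination k6
  have r1 : g (.inr 0) (.inl 1) = 0 := by linear_combination k1
  have r3 : g (.inr 0) (.inr 1) = 0 := by linear_combination k3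
  have c1 : g (.inl 1) (.inl 0) = 0 := by linear_combination k4
  have c3 : g (.inr 1) (.inl 0) = 0 := by linear_combination k5
  have dd : g (.inr 0) (.inr 0) = g (.inl 0) (.inl 0) := by linear_combination -k2
  have s1 := mem_cols hg (.inl 0) (.inr 0)
  have s2 := mem_cols hg (.inl 1) (.inr 1)
  have s3 := mem_cols hg (.inl 1) (.inr 0)
  have s4 := mem_cols hg (.inr 1) (.inr 0)
  simp [Matrix.J, Matrix.fromBlocks, Fin.sum_univ_two, r0, r1, r3, c1, c3, dd] at s1 s2 s3 s4
  set e := g (.inl 0) (.inl 0) with he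
  have hee : e * e = 1 := by linear_combination s1
  set a := e * g (.inl 1) (.inl 1)
  set b := e * g (.inl 1) (.inr 1)
  set d := e * g (.inr 1) (.inl 1)
  set h := e * g (.inr 1) (.inr 1)
  refine ⟨e, e * g (.inl 1) (.inr 0), e * g (.inr 1) (.inr 0), e * g (.inl 0) (.inr 0),
    a, b, d, h, hee, ?_, ?_⟩
  · simp only [a, b, d, h]
    linear_combination -s2 + (g (.inl 1) (.inl 1) * g (.inr 1) (.inr 1) -
      g (.inl 1) (.inr 1) * g (.inr 1) (.inl 1)) * hee
  · ext i j
    rcases i with i | i <;> rcases j with j | j <;> fin_cases i <;> fin_cases j <;>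
      simp [W, ofRows, ix, a, b, d, h, r0, r1, r3, c1, c3, dd, ← he]
    all_goals
      first
        | linear_combination (-(g (.inl 1) (.inl 1))) * hee
        | linear_combination (-(g (.inl 1) (.inr 1))) * hee
        | linear_combination (-(g (.inr 1) (.inl 1))) * hee
        | linear_combination (-(g (.inr 1) (.inr 1))) * hee
        | linear_combination (-(g (.inl 0) (.inr 0))) * hee
        | linear_combination (-(g (.inl 1) (.inr 0))) * hee
        | linear_combination (-(g (.inr 1) (.inr 0))) * hee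
        | linear_combination e * s3 + (-(g (.inl 0) (.inl 1))) * hee +
            (-(e * (g (.inl 1) (.inr 0) * g (.inr 1) (.inl 1) - g (.inr 1) (.inr 0) * g (.inl 1) (.inl 1)))) * hee
        | linear_combination (-e) * s3 + (-(g (.inl 0) (.inl 1))) * hee +
            (-(e * (g (.inl 1) (.inr 0) * g (.inr 1) (.inl 1) - g (.inr 1) (.inr 0) * g (.inl 1) (.inl 1)))) * hee
        | linear_combination e * s4 + (-(g (.inl 0) (.inr 1))) * hee +
            (-(e * (g (.inl 1) (.inr 0) * g (.inr 1) (.inr 1) - g (.inr 1) (.inr 0) * g (.inl 1) (.inr 1)))) * hee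
        | linear_combination (-e) * s4 + (-(g (.inl 0) (.inr 1))) * hee +
            (-(e * (g (.inl 1) (.inr 0) * g (.inr 1) (.inr 1) - g (.inr 1) (.inr 0) * g (.inl 1) (.inr 1)))) * hee

/-- The matrix of parameters over a field with three elements. -/
def Wt (ψ : ZMod 3 ≃+* F) (t : T) : Matrix (Fin 2 ⊕ Fin 2) (Fin 2 ⊕ Fin 2) F :=
  W (ψ (t.1.1 0)) (ψ (t.1.1 1)) (ψ t.1.2)
    (ψ ((t.2 : Matrix (Fin 2) (Fin 2) (ZMod 3)) 0 0)) (ψ ((t.2 : Matrix (Fin 2) (Fin 2) (ZMod 3)) 0 1))
    (ψ ((t.2 : Matrix (Fin 2) (Fin 2) (ZMod 3)) 1 0)) (ψ ((t.2 : Matrix (Fin 2) (Fin 2) (ZMod 3)) 1 1))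

theorem det_entries (ψ : ZMod 3 ≃+* F) (A : S23) :
    ψ ((A : Matrix (Fin 2) (Fin 2) (ZMod 3)) 0 0) * ψ ((A : Matrix (Fin 2) (Fin 2) (ZMod 3)) 1 1) -
      ψ ((A : Matrix (Fin 2) (Fin 2) (ZMod 3)) 0 1) * ψ ((A : Matrix (Fin 2) (Fin 2) (ZMod 3)) 1 0) = 1 := by
  rw [← map_mul, ← map_mul, ← map_sub, ← Matrix.det_fin_two, A.2, map_one]

theorem Wt_mul (ψ : ZMod 3 ≃+* F) (x y : T) : Wt ψ x * Wt ψ y = Wt ψ (tmul x y) := by
  simp only [Wt]
  rw [W_mul _ _ _ _ _ _ _ _ _ _ _ _ _ _ (det_entries ψ x.2)]
  congr 1 <;> simp [tmul, hmul, om, Matrix.vecHead, Matrix.vecTail, Matrix.mulVec, dotProduct, Fin.sum_univ_two,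
    Matrix.SpecialLinearGroup.coe_mul, Matrix.mul_apply] <;> (try ring)

theorem Wt_inj (ψ : ZMod 3 ≃+* F) {x y : T} {e : F} (h : Wt ψ x = e • Wt ψ y) : x = y := by
  have h1 := congrFun (congrFun h (.inl 0)) (.inl 0)
  simp [Wt, W, ofRows, ix] at h1
  subst h1
  rw [one_smul] at h
  have g := fun i j => congrFun (congrFun h i) j
  have e0 : x.1.1 0 = y.1.1 0 := ψ.injective (by simpa [Wt, W, ofRows, ix] using g (.inl 1) (.inr 0))
  have e1' : x.1.1 1 = y.1.1 1 := ψ.injective (by simpa [Wt, W, ofRows, ix] using g (.inr 1) (.inr 0))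
  have e2' : x.1.2 = y.1.2 := ψ.injective (by simpa [Wt, W, ofRows, ix] using g (.inl 0) (.inr 0))
  refine Prod.ext (Prod.ext ?_ e2') (Subtype.ext ?_)
  · funext i; fin_cases i <;> assumption
  · ext i j
    apply ψ.injective
    fin_cases i <;> fin_cases j
    · simpa [Wt, W, ofRows, ix] using g (.inl 1) (.inl 1)
    · simpa [Wt, W, ofRows, ix] using g (.inl 1) (.inr 1)
    · simpa [Wt, W, ofRows, ix] using g (.inr 1) (.inl 1)
    · simpa [Wt, W, ofRows, ix] using g (.inr 1) (.inr 1)

/-- The parameters of the transvection. -/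
def tt : T := ((0, 1), 1)

theorem Wt_tt (ψ : ZMod 3 ≃+* F) : Wt ψ tt = W 0 0 1 1 0 0 1 := by simp [Wt, tt]

theorem tt_central : ∀ x : T, tmul x tt = tmul tt x := by decide +kernel

theorem tmul_one : tmul (((0 : V2), (0 : ZMod 3)), 1) (((0 : V2), (0 : ZMod 3)), 1) = ((0, 0), 1) := by
  decide +kernel

theorem tt_cube : tmul (tmul tt tt) tt = ((0, 0), 1) := by decide +kernel

theorem tt_ne : tt ≠ ((0, 0), 1) := by decide +kernel

theorem main [Fintype F] (hF : Fintype.card F = 3) :
    ∃ (f : T → Cfsg.PSp 2 F), Function.Injective f ∧ (∀ x y, f (tmul x y) = f x * f y) ∧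
      orderOf (f tt) = 3 ∧
      ∀ g, g ∈ Subgroup.centralizer ({f tt} : Set (Cfsg.PSp 2 F)) ↔ ∃ x, f x = g := by
  haveI : Fact (Nat.Prime 3) := ⟨Nat.prime_three⟩
  let ψ : ZMod 3 ≃+* F := FiniteField.ringEquivOfCardEq (by rw [hF, ZMod.card])
  let E : T → Matrix.symplecticGroup (Fin 2) F := fun x => ⟨Wt ψ x, W_symp _ _ _ _ _ _ _ (det_entries ψ x.2)⟩
  let π := QuotientGroup.mk' (Subgroup.center (Matrix.symplecticGroup (Fin 2) F))
  let f : T → Cfsg.PSp 2 F := fun x => π (E x)
  have hE : ∀ x y, E (tmul x y) = E x * E y := fun x y => Subtype.ext (Wt_mul ψ x y).symm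
  have hmul : ∀ x y, f (tmul x y) = f x * f y := fun x y => by simp only [f, hE, map_mul]
  have hcen : ∀ x y, f x = f y → ∃ e : F, Wt ψ x = e • Wt ψ y := by
    intro x y h
    set z := (E y)⁻¹ * E x
    have hz : z ∈ Subgroup.center (Matrix.symplecticGroup (Fin 2) F) := QuotientGroup.eq.mp h.symm
    have hzc := Subgroup.mem_center_iff.mp hz
    have hzt : (z.1) * W 0 0 1 1 0 0 1 = W 0 0 1 1 0 0 1 * z.1 := by
      have := congrArg Subtype.val (hzc (E tt)).symm
      rw [← Wt_tt ψ]; exact this
    obtain ⟨e, p, q, c, a, b, d, h', -, -, hzW⟩ := exists_W z.2 hzt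
    have key : ∀ g : Matrix (Fin 2 ⊕ Fin 2) (Fin 2 ⊕ Fin 2) F, g ∈ Matrix.symplecticGroup (Fin 2) F →
        g * z.1 = z.1 * g := fun g hg => congrArg Subtype.val (hzc ⟨g, hg⟩)
    have he : e ≠ 0 := by
      intro he
      have : z.1 = 0 := by rw [hzW, he, zero_smul]
      have hd := SymplecticGroup.symplectic_det z.2
      rw [this] at hd
      simp at hd
    have kk : ∀ g, g ∈ Matrix.symplecticGroup (Fin 2) F → g * W p q c a b d h' = W p q c a b d h' * g := by
      intro g hg
      have := key g hg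
      rw [hzW, Matrix.mul_smul, Matrix.smul_mul] at this
      exact smul_right_injective _ he this
    have hw1 := kk _ (W_symp (1 : F) 0 0 1 0 0 1 (by ring))
    have hw2 := kk _ (W_symp (0 : F) 1 0 1 0 0 1 (by ring))
    have hw3 := kk (ofRows !![0, 0, -1, 0; 0, 1, 0, 0; 1, 0, 0, 0; 0, 0, 0, 1]) (by
      rw [SymplecticGroup.mem_iff]
      ext i j
      rcases i with i | i <;> rcases j with j | j <;> fin_cases i <;> fin_cases j <;>
        simp [ofRows, ix, Matrix.J, Matrix.fromBlocks, Matrix.mul_apply, Fintype.sum_sum_type,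
          Fin.sum_univ_two])
    have a1 := fun i j => congrFun (congrFun hw3 i) j
    have hc0 : c = 0 := by
      have := a1 (.inl 0) (.inl 0)
      simpa [W, ofRows, ix, Matrix.mul_apply, Fintype.sum_sum_type, Fin.sum_univ_two, eq_comm] using this
    have hp0 : p = 0 := by
      have := a1 (.inl 1) (.inl 0)
      simpa [W, ofRows, ix, Matrix.mul_apply, Fintype.sum_sum_type, Fin.sum_univ_two, eq_comm] using this
    have hq0 : q = 0 := by
      have := a1 (.inr 1) (.inl 0)
      simpa [W, ofRows, ix, Matrix.mul_apply, Fintype.sum_sum_type, Fin.sum_univ_two, eq_comm] using this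
    subst hc0 hp0 hq0
    have b1 := fun i j => congrFun (congrFun hw1 i) j
    have b2 := fun i j => congrFun (congrFun hw2 i) j
    have ha : a = 1 := by
      have := b1 (.inl 1) (.inr 0)
      simpa [W, ofRows, ix, Matrix.mul_apply, Fintype.sum_sum_type, Fin.sum_univ_two, eq_comm] using this
    have hd0 : d = 0 := by
      have := b1 (.inr 1) (.inr 0)
      simpa [W, ofRows, ix, Matrix.mul_apply, Fintype.sum_sum_type, Fin.sum_univ_two, eq_comm] using this
    have hb0 : b = 0 := by
      have := b2 (.inl 1) (.inr 0)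
      simpa [W, ofRows, ix, Matrix.mul_apply, Fintype.sum_sum_type, Fin.sum_univ_two, eq_comm] using this
    have hh : h' = 1 := by
      have := b2 (.inr 1) (.inr 0)
      simpa [W, ofRows, ix, Matrix.mul_apply, Fintype.sum_sum_type, Fin.sum_univ_two, eq_comm] using this
    refine ⟨e, ?_⟩
    have hx : E x = E y * z := (mul_inv_cancel_left _ _).symm
    have := congrArg Subtype.val hx
    rw [show Wt ψ x = (E x).1 from rfl, this, show ((E y * z : Matrix.symplecticGroup (Fin 2) F)).1 =
      Wt ψ y * z.1 from rfl, hzW, ha, hb0, hd0, hh, W_one, Matrix.mul_smul, mul_one]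
  have hinj : Function.Injective f := fun x y h => by
    obtain ⟨e, he⟩ := hcen x y h
    exact Wt_inj ψ he
  have h1 : f ((0, 0), 1) = 1 := by
    have := hmul ((0, 0), 1) ((0, 0), 1)
    rw [tmul_one] at this
    exact mul_eq_left.mp this.symm
  refine ⟨f, hinj, hmul, ?_, fun g => ⟨fun hg => ?_, ?_⟩⟩
  · refine orderOf_eq_prime ?_ ?_
    · rw [pow_succ, pow_two, ← hmul, ← hmul, tt_cube, h1]
    · intro h
      exact absurd (hinj (h.trans h1.symm)) tt_ne
  · obtain ⟨g, rfl⟩ := QuotientGroup.mk'_surjective _ g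
    have h := Subgroup.mem_centralizer_singleton_iff.mp hg
    have hz : (g * E tt)⁻¹ * (E tt * g) ∈ Subgroup.center (Matrix.symplecticGroup (Fin 2) F) := by
      rw [← QuotientGroup.eq]
      exact h
    set z := (g * E tt)⁻¹ * (E tt * g) with hzdef
    -- the commutator is a scalar and unipotent
    have hzc := Subgroup.mem_center_iff.mp hz
    have hEt : E tt * g = g * E tt * z := (mul_inv_cancel_left _ _).symm
    have hz3 : z ^ 3 = 1 := by
      have ht : (E tt) ^ 3 = 1 := by
        rw [pow_succ, pow_two, ← hE, ← hE, tt_cube]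
        exact Subtype.ext (by simp [E, Wt, W_one])
      have e1' : g⁻¹ * E tt * g = E tt * z := by
        rw [mul_assoc, hEt]; group
      have := congrArg (fun u => u ^ 3) e1'
      rw [show (E tt * z) ^ 3 = (E tt) ^ 3 * z ^ 3 from (show Commute (E tt) z from hzc _).mul_pow 3,
        ht, one_mul, show g⁻¹ * E tt * g = g⁻¹ * E tt * g⁻¹⁻¹ by rw [inv_inv], conj_pow, ht, mul_one,
        mul_inv_cancel] at this
      exact this.symm
    have hz2 : z = 1 := by
      have hzt : z.1 * W 0 0 1 1 0 0 1 = W 0 0 1 1 0 0 1 * z.1 := by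
        rw [← Wt_tt ψ]; exact congrArg Subtype.val (hzc (E tt)).symm
      have hf : f tt = f tt := rfl
      have hπz : π z = 1 := (QuotientGroup.eq_one_iff z).mpr hz
      obtain ⟨e, p, q, c, a, b, d, h', hee, hdet', hzW⟩ := exists_W z.2 hzt
      -- `z` agrees with the identity up to sign
      let x : T := ((![ψ.symm p, ψ.symm q], ψ.symm c),
        ⟨!![ψ.symm a, ψ.symm b; ψ.symm d, ψ.symm h'], by
          apply ψ.injective
          simp [Matrix.det_fin_two]
          linear_combination hdet'⟩)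
      have hx : Wt ψ x = W p q c a b d h' := by simp [Wt, x]
      have hsign : e = 1 ∨ e = -1 := by
        rcases mul_eq_zero.mp (show (e - 1) * (e + 1) = 0 by linear_combination hee) with h' | h'
        · exact Or.inl (sub_eq_zero.mp h')
        · exact Or.inr (eq_neg_of_add_eq_zero_left h')
      let m1 : Matrix.symplecticGroup (Fin 2) F := ⟨-1, SymplecticGroup.neg_mem (one_mem _)⟩
      have hm1 : m1 ∈ Subgroup.center (Matrix.symplecticGroup (Fin 2) F) :=
        Subgroup.mem_center_iff.mpr fun u => Subtype.ext (show u.1 * (-1) = (-1) * u.1 by simp)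
      have hfx : f x = f ((0, 0), 1) := by
        rw [h1]
        show π (E x) = 1
        rcases hsign with rfl | rfl
        · rw [show E x = z from Subtype.ext (by show Wt ψ x = z.1; rw [hx, hzW, one_smul]), hπz]
        · rw [show E x = z * m1 from Subtype.ext (by
            show Wt ψ x = z.1 * (-1 : Matrix (Fin 2 ⊕ Fin 2) (Fin 2 ⊕ Fin 2) F)
            rw [hx, hzW]; simp), map_mul, hπz, one_mul]
          exact (QuotientGroup.eq_one_iff _).mpr hm1
      have hx1 := hinj hfx
      have hW1 : W p q c a b d h' = 1 := by rw [← hx, hx1]; simp [Wt, W_one]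
      rw [hW1] at hzW
      rcases hsign with rfl | rfl
      · exact Subtype.ext (by rw [hzW, one_smul]; rfl)
      · exfalso
        have h3 := congrArg (fun u : Matrix.symplecticGroup (Fin 2) F => u.1 (.inl 0) (.inl 0)) hz3
        have : (z ^ 3).1 = z.1 * z.1 * z.1 := by rw [pow_succ, pow_two]; rfl
        simp only [this, hzW] at h3
        simp at h3
        have h2F : (2 : F) ≠ 0 := by
          rw [← map_ofNat ψ 2]
          exact fun h => two_ne (ψ.injective (h.trans (map_zero ψ).symm))
        exact h2F (by linear_combination -h3)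
    have hct : g.1 * W 0 0 1 1 0 0 1 = W 0 0 1 1 0 0 1 * g.1 := by
      rw [hz2, mul_one] at hEt
      rw [← Wt_tt ψ]
      exact (congrArg Subtype.val hEt).symm
    obtain ⟨e, p, q, c, a, b, d, h', hee, hdet', hgW⟩ := exists_W g.2 hct
    let x : T := ((![ψ.symm p, ψ.symm q], ψ.symm c),
      ⟨!![ψ.symm a, ψ.symm b; ψ.symm d, ψ.symm h'], by
        apply ψ.injective
        simp [Matrix.det_fin_two]
        linear_combination hdet'⟩)
    refine ⟨x, ?_⟩
    have hx : Wt ψ x = W p q c a b d h' := by simp [Wt, x]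
    show π (E x) = π g
    rcases mul_eq_zero.mp (show (e - 1) * (e + 1) = 0 by linear_combination hee) with h' | h'
    · congr 1
      refine Subtype.ext ?_
      show Wt ψ x = g.1
      rw [hx, hgW, sub_eq_zero.mp h', one_smul]
    · refine QuotientGroup.eq.mpr ?_
      rw [show (E x)⁻¹ * g = (⟨-1, SymplecticGroup.neg_mem (one_mem _)⟩ : Matrix.symplecticGroup (Fin 2) F) from inv_mul_eq_iff_eq_mul.mpr (Subtype.ext (by
        show g.1 = Wt ψ x * (-1 : Matrix (Fin 2 ⊕ Fin 2) (Fin 2 ⊕ Fin 2) F)
        rw [hx, hgW, eq_neg_of_add_eq_zero_left h']; simp))]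
      exact Subgroup.mem_center_iff.mpr fun u => Subtype.ext (show u.1 * (-1) = (-1) * u.1 by simp)
  · rintro ⟨x, rfl⟩
    exact Subgroup.mem_centralizer_singleton_iff.mpr (by rw [← hmul, ← hmul, tt_central])

end CfsgLib.PSpFourThree
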