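import Mathlib
import Cfsg.Agent.PSpFourThreeCent.Group
import Cfsg.Agent.PSpFourThreeCent.Model

/-!
A group of shape `3^{1+2}.SL₂(3)` is the centraliser of a 3-central element of `PSp₄(3)`.
-/

set_option autoImplicit false
set_option linter.unusedVariables false
set_option linter.style.haveILetI false

open Matrix

namespace CfsgLib.PSpFourThree

theorem heis_cube : ∀ h : H, tmul (tmul (h, 1) (h, 1)) (h, 1) = ((0, 0), 1) := by decide +kernel

theorem cent_heis : ∀ x : T, (tmul x ((e1, 0), 1) = tmul ((e1, 0), 1) x ∧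
    tmul x ((e2, 0), 1) = tmul ((e2, 0), 1) x) →
    (x = ((0, 0), 1) ∨ x = tt ∨ x = tmul tt tt) := by
  set_option synthInstance.maxSize 2000 in set_option synthInstance.maxHeartbeats 200000 in decide +kernel

theorem iso_centralizer {X : Type*} [Group X] [Finite X] (hR : Cfsg.IsExtraspecial 3 (Cfsg.pCore 3 X))
    (hRcard : Nat.card (Cfsg.pCore 3 X) = 27) (hRexp : ∀ r ∈ Cfsg.pCore 3 X, r ^ 3 = 1)
    (e : X ⧸ Cfsg.pCore 3 X ≃* S23) (hO2 : Cfsg.pCore 2 X = ⊥)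
    (hE : ∃ E : Subgroup X, IsMulCommutative E ∧ (∀ a ∈ E, a ^ 3 = 1) ∧ Nat.card E = 27)
    (F : Type*) [Field F] [Fintype F] (hF : Fintype.card F = 3) :
    ∃ (c : Cfsg.PSp 2 F) (S : Sylow 3 (Cfsg.PSp 2 F)), orderOf c = 3 ∧
      c ∈ (S : Subgroup (Cfsg.PSp 2 F)) ∧
      c ∈ Subgroup.centralizer ((S : Subgroup (Cfsg.PSp 2 F)) : Set (Cfsg.PSp 2 F)) ∧
      Nonempty (X ≃* Subgroup.centralizer ({c} : Set (Cfsg.PSp 2 F))) := by
  classical
  haveI : Fact (Nat.Prime 3) := ⟨Nat.prime_three⟩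
  obtain ⟨f, hfi, hfm, hord, hcent⟩ := main (F := F) hF
  obtain ⟨φ, hφ, hφm⟩ := exists_param hR hRcard hRexp e hO2 hE
  have h1 : f ((0, 0), 1) = 1 := by
    have := hfm ((0, 0), 1) ((0, 0), 1)
    rw [tmul_one] at this
    exact mul_eq_left.mp this.symm
  let eφ : T ≃ X := Equiv.ofBijective φ hφ
  let ψ : X →* Cfsg.PSp 2 F := MonoidHom.mk' (fun x => f (eφ.symm x)) fun x y => by
    rw [← hfm]
    congr 1
    apply hφ.1
    rw [hφm, show φ (eφ.symm x) = x from eφ.apply_symm_apply x,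
      show φ (eφ.symm y) = y from eφ.apply_symm_apply y]
    exact eφ.apply_symm_apply _
  have hψ : Function.Injective ψ := fun x y h => eφ.symm.injective (hfi h)
  have hrange : ψ.range = Subgroup.centralizer ({f tt} : Set (Cfsg.PSp 2 F)) := by
    ext g
    rw [hcent]
    constructor
    · rintro ⟨x, rfl⟩; exact ⟨_, rfl⟩
    · rintro ⟨t, rfl⟩; exact ⟨φ t, congrArg f (eφ.symm_apply_apply t)⟩
  -- the Heisenberg subgroup
  have hcube : ∀ h : H, f (h, 1) ^ 3 = 1 := fun h => by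
    rw [pow_succ, pow_two, ← hfm, ← hfm, heis_cube, h1]
  let Hsub : Subgroup (Cfsg.PSp 2 F) :=
    { carrier := {g | ∃ h : H, g = f (h, 1)}
      one_mem' := ⟨(0, 0), h1.symm⟩
      mul_mem' := by
        rintro _ _ ⟨a, rfl⟩ ⟨b, rfl⟩
        exact ⟨hmul a b, by rw [← hfm]; simp [tmul]⟩
      inv_mem' := by
        rintro _ ⟨a, rfl⟩
        refine ⟨hmul a a, ?_⟩
        apply inv_eq_of_mul_eq_one_right
        rw [show f (hmul a a, 1) = f (a, 1) * f (a, 1) by rw [← hfm]; simp [tmul], ← hcube a, pow_succ', pow_two] }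
  have hPG : IsPGroup 3 Hsub := fun g => ⟨1, by
    obtain ⟨h, hh⟩ := g.2
    apply Subtype.ext
    rw [pow_one, SubgroupClass.coe_pow, hh, hcube]; rfl⟩
  obtain ⟨S, hS⟩ := hPG.exists_le_sylow
  have hu : f ((e1, 0), 1) ∈ (S : Subgroup (Cfsg.PSp 2 F)) := hS ⟨_, rfl⟩
  have hw : f ((e2, 0), 1) ∈ (S : Subgroup (Cfsg.PSp 2 F)) := hS ⟨_, rfl⟩
  have ht : f tt ∈ (S : Subgroup (Cfsg.PSp 2 F)) := hS ⟨_, rfl⟩
  haveI : Nontrivial (S : Subgroup (Cfsg.PSp 2 F)) := ⟨⟨f tt, ht⟩, 1, fun h => by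
    have h' : f tt = 1 := congrArg Subtype.val h
    rw [h', orderOf_one] at hord
    norm_num at hord⟩
  haveI := S.isPGroup'.center_nontrivial
  obtain ⟨z, hz⟩ := exists_ne (1 : Subgroup.center (S : Subgroup (Cfsg.PSp 2 F)))
  set y : Cfsg.PSp 2 F := ((z : (S : Subgroup (Cfsg.PSp 2 F))) : Cfsg.PSp 2 F) with hy
  have hy1 : y ≠ 1 := fun h => hz (Subtype.ext (Subtype.ext h))
  have hyc : ∀ g ∈ (S : Subgroup (Cfsg.PSp 2 F)), g * y = y * g := fun g hg =>
    congrArg Subtype.val (Subgroup.mem_center_iff.mp z.2 ⟨g, hg⟩)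
  obtain ⟨x, hx⟩ := (hcent y).mp (Subgroup.mem_centralizer_singleton_iff.mpr (hyc _ ht).symm)
  have hxu : tmul x ((e1, 0), 1) = tmul ((e1, 0), 1) x := hfi (by
    rw [hfm, hfm, hx, hyc _ hu])
  have hxw : tmul x ((e2, 0), 1) = tmul ((e2, 0), 1) x := hfi (by
    rw [hfm, hfm, hx, hyc _ hw])
  have hc3 : f tt * f tt * f tt = 1 := by rw [← hfm, ← hfm, tt_cube, h1]
  have hcc : ∀ g ∈ (S : Subgroup (Cfsg.PSp 2 F)), g * f tt = f tt * g := by
    rcases cent_heis x ⟨hxu, hxw⟩ with rfl | rfl | rfl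
    · exact absurd (hx.symm.trans h1) hy1
    · intro g hg; rw [hx]; exact hyc g hg
    · intro g hg
      have hyy : f tt = y * y := by
        rw [← hx, hfm]
        calc f tt = f tt * (f tt * f tt * f tt) := by rw [hc3, mul_one]
          _ = f tt * f tt * (f tt * f tt) := by simp only [mul_assoc]
      rw [hyy, ← mul_assoc, hyc g hg, mul_assoc, hyc g hg, ← mul_assoc]
  exact ⟨f tt, S, hord, ht, Subgroup.mem_centralizer_iff.mpr hcc,
    ⟨(MonoidHom.ofInjective hψ).trans (MulEquiv.subgroupCongr hrange)⟩⟩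

end CfsgLib.PSpFourThree
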